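import Mathlib

/-!
# Semilinear monomial involutions with the same large fixed space are equal

Project OMEGA, THEOREM WR (N6), step 6 (bb OMEGA #15037).
-/

set_option autoImplicit false

namespace Cfsg.Agent.Omega.NO1.NSix

/-- `s` is additive and monomial: it sends the `i`-th axis to the `σ i`-th by a semilinear map. -/
structure Mono {F : Type} [Field F] {k : ℕ} (s : (Fin k → F) → Fin k → F) : Prop where
  add : ∀ x y, s (x + y) = s x + s y
  mono : ∃ σ : Equiv.Perm (Fin k), ∀ i, ∃ (a : F) (τ : F ≃+* F), a ≠ 0 ∧ ∀ x, s x (σ i) = a * τ (x i)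

variable {F : Type} [Field F] {k : ℕ}

/-- an additive involution in characteristic 2 has a nonzero fixed point -/
theorem exists_fix [CharP F 2] {f : F → F} (hadd : ∀ x y, f (x + y) = f x + f y) (h2 : ∀ t, f (f t) = t) :
    ∃ t, t ≠ 0 ∧ f t = t := by
  by_cases h : f 1 = 1
  · exact ⟨1, one_ne_zero, h⟩
  · refine ⟨1 + f 1, ?_, ?_⟩
    · intro h0
      apply h
      have h1 : (1 : F) + 1 = 0 := CharTwo.add_self_eq_zero 1
      linear_combination h0 - h1
    · rw [hadd, h2, add_comm]

/-- an involutory automorphism of a field is determined by its fixed points -/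
theorem aut_eq {τ τ' : F ≃+* F} (h2 : ∀ y, τ (τ y) = y) (hfix : ∀ y, τ y = y ↔ τ' y = y) (y : F) :
    τ' y = τ y := by
  have h1 : τ' (y + τ y) = y + τ y := by
    rw [← hfix, map_add, h2, add_comm]
  have h3 : τ' (y * τ y) = y * τ y := by
    rw [← hfix, map_mul, h2, mul_comm]
  rw [map_add] at h1
  rw [map_mul] at h3
  have h4 : (τ' y - y) * (τ' y - τ y) = 0 := by
    linear_combination τ' y * h1 - h3
  rcases mul_eq_zero.mp h4 with h5 | h5
  · have h6 := sub_eq_zero.mp h5
    have h7 := (hfix y).mpr h6
    rw [h6, h7]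
  · exact sub_eq_zero.mp h5

/-- the case of an axis moved by `s` -/
theorem same_of_moved [Finite F] [CharP F 2] {s s' : (Fin k → F) → Fin k → F}
    (h : Mono s) (h' : Mono s') (h2 : ∀ x, s (s x) = x) (h2' : ∀ x, s' (s' x) = x)
    (hc : ∀ x, s x = x ↔ s' x = x)
    (hi : Nat.card F ^ k ≤ Nat.card F * Nat.card {x : Fin k → F // s x = x})
    {σ : Equiv.Perm (Fin k)} (hσ : ∀ i, ∃ (a : F) (τ : F ≃+* F), a ≠ 0 ∧ ∀ x, s x (σ i) = a * τ (x i))
    {j : Fin k} (hj : σ j ≠ j) : s = s' := by
  classical
  obtain ⟨σ', hσ'⟩ := h'.mono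
  choose a τ ha hs using hσ
  choose a' τ' ha' hs' using hσ'
  have hone : ∀ i m : Fin k, ∀ t : F, i ≠ m → (Pi.single i t : Fin k → F) m = 0 := fun i m t him => by
    rw [Pi.single_apply, if_neg (Ne.symm him)]
  -- the values on the axes
  have hval : ∀ i t, s (Pi.single i t) = Pi.single (σ i) (a i * τ i t) := by
    intro i t
    funext m
    obtain ⟨l, rfl⟩ := σ.surjective m
    rw [hs]
    by_cases hl : l = i
    · subst hl
      rw [Pi.single_eq_same, Pi.single_eq_same]
    · rw [hone i l t (Ne.symm hl), map_zero, mul_zero, hone _ _ _ (fun e => hl (σ.injective e).symm)]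
  have hval' : ∀ i t, s' (Pi.single i t) = Pi.single (σ' i) (a' i * τ' i t) := by
    intro i t
    funext m
    obtain ⟨l, rfl⟩ := σ'.surjective m
    rw [hs']
    by_cases hl : l = i
    · subst hl
      rw [Pi.single_eq_same, Pi.single_eq_same]
    · rw [hone i l t (Ne.symm hl), map_zero, mul_zero, hone _ _ _ (fun e => hl (σ'.injective e).symm)]
  -- `s` has no fixed point on the axis
  have hfix : ∀ t, s (Pi.single j t) = Pi.single j t → t = 0 := by
    intro t ht
    rw [hval] at ht
    have h1 := congrFun ht (σ j)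
    rw [Pi.single_eq_same, hone _ _ _ hj.symm] at h1
    have h3 := (mul_eq_zero.mp h1).resolve_left (ha j)
    exact (map_eq_zero (τ j)).mp h3
  -- `s'` moves the axis
  have hj' : σ' j ≠ j := by
    intro e
    have h3 : ∀ t, s' (Pi.single j t) = Pi.single j (a' j * τ' j t) := fun t => by rw [hval', e]
    obtain ⟨t, ht0, ht⟩ := exists_fix (f := fun t => a' j * τ' j t)
      (fun x y => by rw [map_add, mul_add]) (fun t => by
        have h4 := h2' (Pi.single j t)
        rw [h3, h3] at h4
        exact Pi.single_injective j h4)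
    apply ht0
    apply hfix
    rw [hc, h3]
    have ht' : a' j * τ' j t = t := ht
    rw [ht']
  -- they agree on the axis
  have hax : ∀ t, s' (Pi.single j t) = s (Pi.single j t) := by
    have h3 : ∀ t, s' (Pi.single j t) + s' (s (Pi.single j t)) = Pi.single j t + s (Pi.single j t) := by
      intro t
      rw [← h'.add, ← hc, h.add, h2, add_comm]
    have h4 : ∀ t, a' j * τ' j t = (s (Pi.single j t)) (σ' j) := by
      intro t
      have h5 := congrFun (h3 t) (σ' j)
      rw [Pi.add_apply, Pi.add_apply, hval', hval, hval', Pi.single_eq_same,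
        hone (σ' (σ j)) (σ' j) _ (fun e => hj (σ'.injective e)), hone j (σ' j) _ hj'.symm, add_zero,
        zero_add] at h5
      rw [hval]
      exact h5
    have h6 : σ' j = σ j := by
      by_contra hne
      have h7 := h4 1
      rw [hval, hone _ _ _ (Ne.symm hne), map_one, mul_one] at h7
      exact ha' j h7
    intro t
    rw [hval', h4 t, h6, hval, Pi.single_eq_same]
  -- `F ^ k` is the sum of the fixed space and the axis
  let S : (Fin k → F) →+ (Fin k → F) := AddMonoidHom.mk' s h.add
  have hS : ∀ x, S x = s x := fun x => rfl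
  let φ : {x : Fin k → F // s x = x} × F → (Fin k → F) := fun p => (p.1 : Fin k → F) + (Pi.single j p.2 : Fin k → F)
  have hφ : Function.Injective φ := by
    rintro ⟨⟨c, hc1⟩, t⟩ ⟨⟨c', hc1'⟩, t'⟩ hcc
    have hcc' : c + Pi.single j t = c' + Pi.single j t' := hcc
    have h3 : (Pi.single j (t - t') : Fin k → F) = c' - c := by
      have : (Pi.single j (t - t') : Fin k → F) = Pi.single j t - Pi.single j t' := by
        rw [← Pi.single_sub]
      rw [this]
      linear_combination hcc'
    have h4 : t - t' = 0 := by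
      apply hfix
      rw [h3, ← hS, map_sub, hS, hS, hc1, hc1']
    have h5 : t = t' := sub_eq_zero.mp h4
    subst h5
    have h6 : c = c' := add_right_cancel hcc'
    subst h6
    rfl
  have hcard : Nat.card (Fin k → F) ≤ Nat.card ({x : Fin k → F // s x = x} × F) := by
    rw [Nat.card_prod, Nat.card_fun, Nat.card_fin, mul_comm]
    exact hi
  have hsurj : Function.Surjective φ :=
    ((Nat.bijective_iff_injective_and_card φ).mpr
      ⟨hφ, le_antisymm (Nat.card_le_card_of_injective φ hφ) hcard⟩).2
  funext x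
  obtain ⟨⟨⟨c, hc1⟩, t⟩, rfl⟩ := hsurj x
  change s (c + Pi.single j t) = s' (c + Pi.single j t)
  rw [h.add, h'.add, hax, hc1, (hc c).mp hc1]

/-- **Step 6 of (N6)** -/
theorem same {F : Type} [Field F] [Finite F] [CharP F 2] {k : ℕ} {s s' : (Fin k → F) → Fin k → F}
    (h : Mono s) (h' : Mono s') (h2 : ∀ x, s (s x) = x) (h2' : ∀ x, s' (s' x) = x)
    (hc : ∀ x, s x = x ↔ s' x = x)
    (hi : Nat.card F ^ k ≤ Nat.card F * Nat.card {x : Fin k → F // s x = x}) : s = s' := by
  classical
  obtain ⟨σ, hσ⟩ := h.mono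
  by_cases hm : ∃ j, σ j ≠ j
  · obtain ⟨j, hj⟩ := hm
    exact same_of_moved h h' h2 h2' hc hi hσ hj
  obtain ⟨σ', hσ'⟩ := h'.mono
  by_cases hm' : ∃ j, σ' j ≠ j
  · obtain ⟨j, hj⟩ := hm'
    refine (same_of_moved h' h h2' h2 (fun x => (hc x).symm) ?_ hσ' hj).symm
    have h3 : Nat.card {x : Fin k → F // s' x = x} = Nat.card {x : Fin k → F // s x = x} :=
      Nat.card_congr (Equiv.subtypeEquivRight fun x => (hc x).symm)
    rw [h3]; exact hi
  push Not at hm hm'
  choose a τ ha hs using hσ
  choose a' τ' ha' hs' using hσ'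
  have hs1 : ∀ i x, s x i = a i * τ i (x i) := fun i x => by
    have := hs i x
    rwa [hm i] at this
  have hs1' : ∀ i x, s' x i = a' i * τ' i (x i) := fun i x => by
    have := hs' i x
    rwa [hm' i] at this
  -- on one axis
  have key : ∀ i t, a i * τ i t = a' i * τ' i t := by
    intro i
    have hone : ∀ m : Fin k, ∀ t : F, i ≠ m → (Pi.single i t : Fin k → F) m = 0 := fun m t him => by
      rw [Pi.single_apply, if_neg (Ne.symm him)]
    have hval : ∀ t, s (Pi.single i t) = Pi.single i (a i * τ i t) := by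
      intro t
      funext m
      rw [hs1]
      by_cases hmi : m = i
      · subst hmi
        rw [Pi.single_eq_same, Pi.single_eq_same]
      · rw [hone m t (Ne.symm hmi), map_zero, mul_zero, hone m _ (Ne.symm hmi)]
    have hval' : ∀ t, s' (Pi.single i t) = Pi.single i (a' i * τ' i t) := by
      intro t
      funext m
      rw [hs1']
      by_cases hmi : m = i
      · subst hmi
        rw [Pi.single_eq_same, Pi.single_eq_same]
      · rw [hone m t (Ne.symm hmi), map_zero, mul_zero, hone m _ (Ne.symm hmi)]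
    have hf2 : ∀ t, a i * τ i (a i * τ i t) = t := by
      intro t
      have h4 := h2 (Pi.single i t)
      rw [hval, hval] at h4
      exact Pi.single_injective i h4
    have hcc : ∀ t, a i * τ i t = t ↔ a' i * τ' i t = t := by
      intro t
      have h4 := hc (Pi.single i t)
      rw [hval, hval'] at h4
      exact ⟨fun e => Pi.single_injective i (h4.mp (by rw [e])), fun e => Pi.single_injective i (h4.mpr (by rw [e]))⟩
    obtain ⟨x₀, hx0, hx⟩ := exists_fix (f := fun t => a i * τ i t) (fun x y => by rw [map_add, mul_add]) hf2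
    have hx1 : a i * τ i x₀ = x₀ := hx
    have hx2 : a' i * τ' i x₀ = x₀ := (hcc x₀).mp hx1
    have e1 : ∀ y, a i * τ i (y * x₀) = τ i y * x₀ := by
      intro y
      rw [map_mul]
      linear_combination τ i y * hx1
    have e2 : ∀ y, a' i * τ' i (y * x₀) = τ' i y * x₀ := by
      intro y
      rw [map_mul]
      linear_combination τ' i y * hx2
    have e3 : ∀ y, τ i (τ i y) = y := by
      intro y
      have h4 := hf2 (y * x₀)
      rw [e1, e1] at h4
      exact mul_right_cancel₀ hx0 h4
    have e4 : ∀ y, τ i y = y ↔ τ' i y = y := by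
      intro y
      have h4 := hcc (y * x₀)
      rw [e1, e2] at h4
      exact ⟨fun e => mul_right_cancel₀ hx0 (h4.mp (by rw [e])), fun e => mul_right_cancel₀ hx0 (h4.mpr (by rw [e]))⟩
    intro t
    have e5 : t = t / x₀ * x₀ := by rw [div_mul_cancel₀ _ hx0]
    rw [e5, e1, e2, aut_eq e3 e4]
  funext x i
  rw [hs1, hs1', key]

end Cfsg.Agent.Omega.NO1.NSix
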