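import Mathlib

/-!
# A 2-group `B / K` of automizers is conjugate into a Sylow group (project OMEGA, helper675)

`K ≤ B ≤ N`, `K` normal in `N`, `b² ∈ K` for `b ∈ B`, `S ≤ N` a Sylow 2-subgroup of `G`: there is `n ∈ N` with
`n b n⁻¹ ∈ S K` for all `b ∈ B`.
-/

set_option autoImplicit false

namespace Cfsg.Agent.Omega.NO1.NSix

open Subgroup
open scoped Pointwise

/-- A Sylow subgroup covers a quotient of `2`-power exponent. -/
theorem sylow_cover {B : Type*} [Group B] [Finite B] (R : Sylow 2 B) (K : Subgroup B) [K.Normal]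
    (hsq : ∀ b : B, b * b ∈ K) (b : B) : ∃ r ∈ R, r⁻¹ * b ∈ K := by
  have : Fact (Nat.Prime 2) := ⟨Nat.prime_two⟩
  have hq : IsPGroup 2 (B ⧸ K) := by
    intro x
    obtain ⟨b, rfl⟩ := QuotientGroup.mk'_surjective K x
    refine ⟨1, ?_⟩
    rw [pow_one, pow_two, ← map_mul]
    exact (QuotientGroup.eq_one_iff _).2 (hsq b)
  let R' : Sylow 2 (B ⧸ K) := R.mapSurjective (QuotientGroup.mk'_surjective K)
  have hR' : (R' : Subgroup (B ⧸ K)) = ⊤ := by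
    have h1 : IsPGroup 2 (⊤ : Subgroup (B ⧸ K)) := hq.to_subgroup ⊤
    exact (R'.is_maximal' h1 le_top).symm
  have h2 : QuotientGroup.mk' K b ∈ (R' : Subgroup (B ⧸ K)) := by rw [hR']; trivial
  obtain ⟨r, hr, hrb⟩ := h2
  refine ⟨r, hr, ?_⟩
  rw [← QuotientGroup.eq]
  exact hrb

theorem exists_conj_mem {G : Type*} [Group G] [Finite G] (S : Sylow 2 G) {N K B : Subgroup G}
    (hSN : (S : Subgroup G) ≤ N) (hKN : N ≤ normalizer (K : Set G)) (hBN : B ≤ N)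
    (hsq : ∀ b ∈ B, b * b ∈ K) :
    ∃ n ∈ N, ∀ b ∈ B, ∃ s ∈ S, ∃ κ ∈ K, n * b * n⁻¹ = s * κ := by
  have : Fact (Nat.Prime 2) := ⟨Nat.prime_two⟩
  obtain ⟨R⟩ : Nonempty (Sylow 2 B) := inferInstance
  have hKB : (K.subgroupOf B).Normal := by
    constructor
    rintro ⟨κ, hκ⟩ h1 ⟨b, hb⟩
    rw [mem_subgroupOf] at h1 ⊢
    exact (mem_normalizer_iff.1 (hKN (hBN hb)) κ).1 h1
  -- conjugate `R` into `S` inside `N`
  let Rn : Subgroup N := ((R : Subgroup B).map B.subtype).subgroupOf N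
  have hRn : IsPGroup 2 Rn := by
    have h1 : IsPGroup 2 ((R : Subgroup B).map B.subtype) := R.isPGroup'.map _
    exact h1.comap_of_injective N.subtype N.subtype_injective
  obtain ⟨R₁, hR₁⟩ := hRn.exists_le_sylow
  obtain ⟨n, hn⟩ := MulAction.exists_smul_eq N R₁ (S.subtype hSN)
  refine ⟨n, n.2, fun b hb => ?_⟩
  obtain ⟨r, hr, hrb⟩ := sylow_cover R (K.subgroupOf B) (fun b => by
    rw [mem_subgroupOf]; exact hsq b b.2) ⟨b, hb⟩
  rw [mem_subgroupOf] at hrb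
  have hr1 : (⟨(r : G), hBN r.2⟩ : N) ∈ Rn := ⟨r, hr, rfl⟩
  have hr2 : n * ⟨(r : G), hBN r.2⟩ * n⁻¹ ∈ n • R₁ := by
    have : n * ⟨(r : G), hBN r.2⟩ * n⁻¹ ∈ MulAut.conj n • (R₁ : Subgroup N) :=
      Subgroup.smul_mem_pointwise_smul _ _ _ (hR₁ hr1)
    exact this
  rw [hn] at hr2
  have hr3 : (n : G) * r * (n : G)⁻¹ ∈ (S : Subgroup G) := hr2
  refine ⟨_, hr3, n * ((r : G)⁻¹ * b) * (n : G)⁻¹, ?_, by group⟩
  exact (mem_normalizer_iff.1 (hKN n.2) _).1 hrb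

end Cfsg.Agent.Omega.NO1.NSix
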