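import Cfsg.Agent.Omega.NO1.NSix.Tri
import Cfsg.Agent.Omega.NO1.NSix.Syl
import Cfsg.Agent.Omega.NO1.NSix.Same
import Cfsg.Agent.Omega.NOne.LemmaT

/-!
# (N6) of THEOREM WR (#15037, helper675), steps 5 and 6

`main` : `Cfg S P`, `M : NatK F S P V ⊥ k`, `k ≥ 2`, `|F| ≥ 4`, `V ∩ Q = {v | all second coordinates are 0}`
is impossible.
-/

set_option autoImplicit false
set_option linter.unusedSectionVars false

namespace Cfsg.Agent.Omega.NO1.NSix

open Subgroup Cfsg Cfsg.Agent.ZN Cfsg.Agent.Omega.FFThm Cfsg.Agent.Omega.Half Cfsg.Agent.Omega.MinPar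
open Cfsg.Agent.Omega.Half.NatA
open Cfsg.Agent.Omega.NoFF.LinesPlug (CC)
open Cfsg.Agent.Omega.NOne.Frame (norm_mem norm_mem' mem_conj' X)
open Cfsg.Agent.Omega.NatPair (ap ap_one ap_add ap_zero' ap_one')
open Cfsg.Agent.Lib.SL2Mat (mk mk_00 mk_01 mk_10 mk_11)
open scoped Pointwise

universe u

variable {G : Type u} [Group G] [Finite G] {S : Sylow 2 G} {P : Subgroup G}
variable {F : Type} [Field F] [Finite F] [CharP F 2] {k : ℕ}

/-- the subgroup `E = V ∩ Q` -/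
abbrev EQ (S : Sylow 2 G) (P : Subgroup G) : Subgroup G := zl (S : Subgroup G) P ⊓ o2 (CC (S : Subgroup G))

section coord

variable (M : NatK F (S : Subgroup G) P (zl (S : Subgroup G) P) ⊥ k)

/-- the element of `E` with first coordinates `x` -/
noncomputable def cE (x : Fin k → F) : G := (M.surj fun j => ![x j, 0]).choose

theorem cE_V (x : Fin k → F) : cE M x ∈ zl (S : Subgroup G) P := (M.surj fun j => ![x j, 0]).choose_spec.1

theorem e_cE (x : Fin k → F) : M.e (cE M x) = fun j => ![x j, 0] := (M.surj fun j => ![x j, 0]).choose_spec.2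

theorem cE_add (x y : Fin k → F) : cE M (x + y) = cE M x * cE M y := by
  apply inj M (cE_V M _) (mul_mem (cE_V M x) (cE_V M y))
  rw [M.mul _ (cE_V M x) _ (cE_V M y), e_cE, e_cE, e_cE]
  funext j
  rw [Pi.add_apply]
  ext m
  fin_cases m <;> simp

theorem cE_inj {x y : Fin k → F} (h : cE M x = cE M y) : x = y := by
  funext j
  have h1 := congrFun (congrFun (congrArg M.e h) j) 0
  rw [e_cE, e_cE] at h1
  simpa using h1

end coord

namespace CaseQ

variable {M : NatK F (S : Subgroup G) P (zl (S : Subgroup G) P) ⊥ k} (h : CaseQ M)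
include h

theorem cE_E (x : Fin k → F) : cE M x ∈ EQ S P := by
  refine ⟨cE_V M x, (h.hE _ (cE_V M x)).2 fun j => ?_⟩
  rw [e_cE]
  rfl

theorem cE_of {v : G} (hv : v ∈ EQ S P) : cE M (fun j => M.e v j 0) = v := by
  apply inj M (cE_V M _) hv.1
  rw [e_cE]
  funext j
  exact (vec_eq ((h.hE v hv.1).1 hv.2 j)).symm

/-- the action on the first coordinates -/
noncomputable def sm (M : NatK F (S : Subgroup G) P (zl (S : Subgroup G) P) ⊥ k) (g : G) (x : Fin k → F) :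
    Fin k → F := fun j => M.e (g * cE M x * g⁻¹) j 0

theorem cE_sm {g : G} (hg : g ∈ normalizer (EQ S P : Set G)) (x : Fin k → F) :
    cE M (sm M g x) = g * cE M x * g⁻¹ :=
  h.cE_of (norm_mem hg (h.cE_E x))

theorem S_le_N : (S : Subgroup G) ≤ normalizer (EQ S P : Set G) := by
  intro s hs
  have h1 := Cfg.P_norm_V S P (h.cfg.S_le hs)
  have h2 := MinSimple.VModule.le_normalizer_o2 _ (Cfg.S_le_CC S hs)
  rw [mem_normalizer_iff] at h1 h2 ⊢
  exact fun x => and_congr (h1 x) (h2 x)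

theorem sm_add {g : G} (hg : g ∈ normalizer (EQ S P : Set G)) (x y : Fin k → F) :
    sm M g (x + y) = sm M g x + sm M g y := by
  apply cE_inj M
  rw [h.cE_sm hg, cE_add, cE_add, h.cE_sm hg, h.cE_sm hg]
  group

/-- the elements of `S` act monomially -/
theorem mono {s : G} (hs : s ∈ S) : Mono (sm M s) := by
  refine ⟨h.sm_add (h.S_le_N hs), ?_⟩
  have hsP := h.cfg.S_le hs
  obtain ⟨σ, hσ⟩ := M.perm s hsP
  refine ⟨σ, fun i => ?_⟩
  obtain ⟨τ, hτ⟩ := exists_semi h.amb hsP hσ i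
  have h1 : ph M s i (σ i) ![1, 0] 1 = 0 := by
    have h2 : s * em M i ![1, 0] * s⁻¹ ∈ EQ S P := norm_mem (h.S_le_N hs) ⟨em_mem M i _, h.em_Q i 1⟩
    exact (h.hE _ h2.1).1 h2.2 (σ i)
  refine ⟨ph M s i (σ i) ![1, 0] 0, τ, fun h0 => ?_, fun x => ?_⟩
  · have h3 : ph M s i (σ i) ![1, 0] = 0 := by
      ext m
      fin_cases m
      · exact h0
      · exact h1
    have h4 := ph_inv h.amb hsP hσ i ![1, 0]
    have h5 := ph_inv h.amb hsP hσ i 0
    have h6 : ph M s i (σ i) 0 = 0 := by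
      have := ph_add h.amb hsP i (σ i) (M := M) 0 0
      rw [add_zero] at this
      exact left_eq_add.1 this
    rw [h3, ← h6, h5] at h4
    exact one_ne_zero (congrFun h4 0).symm
  · have h2 : sm M s x (σ i) = ph M s i (σ i) ![x i, 0] 0 := by
      rw [sm, NSix.e_conj h.amb hsP hσ (cE_V M x) i, e_cE]
    have e1 : (![x i, 0] : Fin 2 → F) = x i • ![1, 0] := by simp
    rw [h2, e1, hτ, Pi.smul_apply, smul_eq_mul, mul_comm]

/-- an element of `Z` has full support -/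
theorem exists_z : ∃ z ∈ EQ S P, (∀ c ∈ CC (S : Subgroup G), c * z = z * c) ∧ ∀ i, M.e z i 0 ≠ 0 := by
  have hne := MinSimple.Basic.zc_ne_bot S.isPGroup' (h.cfg.ctx.sylow_ne_bot S)
  obtain ⟨⟨z, hz⟩, hz1⟩ := ne_bot_iff_exists_ne_one.1 hne
  replace hz1 : z ≠ 1 := fun h1 => hz1 (Subtype.ext h1)
  have hzE := h.cfg.Z_le_E hz
  refine ⟨z, hzE, fun c hc => (mem_centralizer_iff.1 hc z hz).symm, fun i h0 => hz1 ?_⟩
  have h1 : ∀ i, M.e z i 1 = 0 := (h.hE z hzE.1).1 hzE.2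
  apply eq_one M hzE.1
  funext j
  obtain ⟨t, ht, h2⟩ := M.trans i j
  have h3 := h2 z hzE.1
  have h4 : t * z * t⁻¹ = z := by
    rw [(MinSimple.VModule.mem_zc.1 hz).2.1 t ht, mul_inv_cancel_right]
  rw [h4] at h3
  refine h3.2 ?_
  ext m
  fin_cases m
  · exact h0
  · exact h1 i

/-- the diagonal element `t_a` -/
theorem exists_diag (i : Fin k) {a : F} (ha : a ≠ 0) :
    ∃ t ∈ P, (∀ x, t * em M i ![x, 0] * t⁻¹ = em M i ![a * x, 0]) ∧
      ∀ d ∈ EQ S P, t * d * t⁻¹ = d * em M i ![(a + 1) * M.e d i 0, 0] := by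
  classical
  obtain ⟨t, ht, htA, -⟩ := M.lift (Function.update 1 i (Lib.SL2Mat.dg a ha))
  have hti : ∀ v ∈ zl (S : Subgroup G) P, M.e (t * v * t⁻¹) i = ![a * M.e v i 0, a⁻¹ * M.e v i 1] := by
    intro v hv
    rw [htA v hv i, Function.update_self]
    ext m
    fin_cases m
    · show ap (Lib.SL2Mat.dg a ha) (M.e v i) 0 = _
      rw [ap_zero', Lib.SL2Mat.dg_00, Lib.SL2Mat.dg_01]; simp
    · show ap (Lib.SL2Mat.dg a ha) (M.e v i) 1 = _
      rw [ap_one', Lib.SL2Mat.dg_10, Lib.SL2Mat.dg_11]; simp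
  have htj : ∀ v ∈ zl (S : Subgroup G) P, ∀ j, j ≠ i → M.e (t * v * t⁻¹) j = M.e v j := by
    intro v hv j hj
    rw [htA v hv j, Function.update_of_ne hj, Pi.one_apply, ap_one]
  refine ⟨t, ht, fun x => ?_, fun d hd => ?_⟩
  · apply inj M (h.amb.conj_mem ht (em_mem M i _)) (em_mem M i _)
    funext j
    by_cases hj : j = i
    · rw [hj, hti _ (em_mem M i _), e_em_self, e_em_self]
      simp
    · rw [htj _ (em_mem M i _) j hj, e_em_ne M hj, e_em_ne M hj]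
  · have hd1 := (h.hE d hd.1).1 hd.2
    apply inj M (h.amb.conj_mem ht hd.1) (mul_mem hd.1 (em_mem M i _))
    rw [M.mul _ hd.1 _ (em_mem M i _)]
    funext j
    rw [Pi.add_apply]
    by_cases hj : j = i
    · rw [hj, hti _ hd.1, e_em_self]
      ext m
      fin_cases m
      · simp only [Fin.zero_eta, Matrix.cons_val_zero, Pi.add_apply]
        have e1 : M.e d i 0 + (a + 1) * M.e d i 0 = a * M.e d i 0 + (M.e d i 0 + M.e d i 0) := by ring
        rw [e1, CharTwo.add_self_eq_zero, add_zero]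
      · simp [hd1 i]
    · rw [htj _ hd.1 j hj, e_em_ne M hj, add_zero]

/-- `g` acts on `L_i` trivially and on `D` by `d ↦ d + κ d_i` -/
def IsTv (M : NatK F (S : Subgroup G) P (zl (S : Subgroup G) P) ⊥ k) (i : Fin k) (D : Subgroup G) (κ : F)
    (g : G) : Prop :=
  (∀ d ∈ D, g * d * g⁻¹ = d * em M i ![κ * M.e d i 0, 0]) ∧ ∀ x : F, g * em M i ![x, 0] * g⁻¹ = em M i ![x, 0]

omit h in
theorem em_zero' (M : NatK F (S : Subgroup G) P (zl (S : Subgroup G) P) ⊥ k) (i : Fin k) :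
    em M i ![0, 0] = 1 := by
  have e1 : (![0, 0] : Fin 2 → F) = 0 := by
    ext m
    fin_cases m <;> rfl
  rw [e1, em_zero]

omit h in
theorem em_eq_one (M : NatK F (S : Subgroup G) P (zl (S : Subgroup G) P) ⊥ k) (i : Fin k) {x : F}
    (hx : em M i ![x, 0] = 1) : x = 0 := by
  have h1 := congrArg (fun v => M.e v i 0) hx
  simp only [e_em_self, e_one] at h1
  simpa using h1

omit h in
theorem em_inv (M : NatK F (S : Subgroup G) P (zl (S : Subgroup G) P) ⊥ k) (i : Fin k) (x : F) :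
    (em M i ![x, 0])⁻¹ = em M i ![x, 0] := by
  rw [inv_eq_iff_mul_eq_one, ← em_line_add, CharTwo.add_self_eq_zero, em_zero']

omit h in
theorem IsTv.mul {i : Fin k} {D : Subgroup G} {κ κ' : F} {g g' : G} (h1 : IsTv M i D κ g)
    (h2 : IsTv M i D κ' g') : IsTv M i D (κ + κ') (g * g') := by
  refine ⟨fun d hd => ?_, fun x => ?_⟩
  · have e1 : g * g' * d * (g * g')⁻¹ = g * (g' * d * g'⁻¹) * g⁻¹ := by group
    have e2 : g * (d * em M i ![κ' * M.e d i 0, 0]) * g⁻¹ =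
        g * d * g⁻¹ * (g * em M i ![κ' * M.e d i 0, 0] * g⁻¹) := by group
    rw [e1, h2.1 d hd, e2, h1.1 d hd, h1.2, mul_assoc, ← em_line_add, add_mul]
  · have e1 : g * g' * em M i ![x, 0] * (g * g')⁻¹ = g * (g' * em M i ![x, 0] * g'⁻¹) * g⁻¹ := by group
    rw [e1, h2.2, h1.2]

omit h in
theorem IsTv.one (M : NatK F (S : Subgroup G) P (zl (S : Subgroup G) P) ⊥ k) (i : Fin k) (D : Subgroup G) :
    IsTv M i D 0 1 := by
  refine ⟨fun d _ => ?_, fun x => by group⟩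
  rw [zero_mul, em_zero']
  group

omit h in
theorem IsTv.inv {i : Fin k} {D : Subgroup G} {κ : F} {g : G} (h1 : IsTv M i D κ g) : IsTv M i D κ g⁻¹ := by
  have h2 : ∀ x : F, g⁻¹ * em M i ![x, 0] * g⁻¹⁻¹ = em M i ![x, 0] := by
    intro x
    conv_lhs => rw [← h1.2 x]
    group
  refine ⟨fun d hd => ?_, h2⟩
  have e1 : g⁻¹ * (g * d * g⁻¹) * g⁻¹⁻¹ = d := by group
  rw [h1.1 d hd] at e1
  have e2 : g⁻¹ * (d * em M i ![κ * M.e d i 0, 0]) * g⁻¹⁻¹ =
      g⁻¹ * d * g⁻¹⁻¹ * (g⁻¹ * em M i ![κ * M.e d i 0, 0] * g⁻¹⁻¹) := by group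
  rw [e2, h2] at e1
  rw [← em_inv M i (κ * M.e d i 0), eq_mul_inv_iff_mul_eq]
  exact e1

/-- the group of these elements -/
def Bg (M : NatK F (S : Subgroup G) P (zl (S : Subgroup G) P) ⊥ k) (i : Fin k) (D : Subgroup G) :
    Subgroup G where
  carrier := {g | ∃ κ, IsTv M i D κ g}
  mul_mem' := by
    rintro g g' ⟨κ, h1⟩ ⟨κ', h2⟩
    exact ⟨κ + κ', h1.mul h2⟩
  one_mem' := ⟨0, IsTv.one M i D⟩
  inv_mem' := by
    rintro g ⟨κ, h1⟩
    exact ⟨κ, h1.inv⟩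

theorem tv_act {i : Fin k} {D : Subgroup G} {κ : F} {g : G} (h1 : IsTv M i D κ g) {e : G}
    (he : e ∈ EQ S P) {x : F} (hx : em M i ![x, 0] * e ∈ D) :
    g * e * g⁻¹ = e * em M i ![κ * M.e (em M i ![x, 0] * e) i 0, 0] := by
  have h2 := h1.1 _ hx
  have e1 : g * (em M i ![x, 0] * e) * g⁻¹ = g * em M i ![x, 0] * g⁻¹ * (g * e * g⁻¹) := by group
  rw [e1, h1.2] at h2
  have h3 : em M i ![x, 0] * (g * e * g⁻¹) =
      em M i ![x, 0] * (e * em M i ![κ * M.e (em M i ![x, 0] * e) i 0, 0]) := by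
    rw [h2, mul_assoc (em M i ![x, 0]) e]
  exact mul_left_cancel h3

theorem Bg_conj {i : Fin k} {D : Subgroup G} (hgen : ∀ e ∈ EQ S P, ∃ x : F, em M i ![x, 0] * e ∈ D) {g e : G}
    (hg : g ∈ Bg M i D) (he : e ∈ EQ S P) : g * e * g⁻¹ ∈ EQ S P := by
  obtain ⟨κ, h1⟩ := hg
  obtain ⟨x, hx⟩ := hgen e he
  rw [h.tv_act h1 he hx]
  exact mul_mem he ⟨em_mem M i _, h.em_Q i _⟩

theorem Bg_le {i : Fin k} {D : Subgroup G} (hgen : ∀ e ∈ EQ S P, ∃ x : F, em M i ![x, 0] * e ∈ D) :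
    Bg M i D ≤ normalizer (EQ S P : Set G) := by
  intro g hg
  rw [mem_normalizer_iff]
  intro e
  refine ⟨fun he => h.Bg_conj hgen hg he, fun he => ?_⟩
  have h1 := h.Bg_conj hgen (inv_mem hg) he
  have e1 : g⁻¹ * (g * e * g⁻¹) * g⁻¹⁻¹ = e := by group
  rwa [e1] at h1

theorem Bg_sq {i : Fin k} {D : Subgroup G} (hgen : ∀ e ∈ EQ S P, ∃ x : F, em M i ![x, 0] * e ∈ D) {g : G}
    (hg : g ∈ Bg M i D) : g * g ∈ centralizer (EQ S P : Set G) := by
  obtain ⟨κ, h1⟩ := hg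
  have h2 := h1.mul h1
  rw [CharTwo.add_self_eq_zero] at h2
  rw [mem_centralizer_iff]
  intro e he
  obtain ⟨x, hx⟩ := hgen e he
  have h3 := h.tv_act h2 he hx
  rw [zero_mul, em_zero', mul_one] at h3
  calc e * (g * g) = g * g * e * (g * g)⁻¹ * (g * g) := by rw [h3]
    _ = g * g * e := by group

omit h in
theorem exists_two (hq : 4 ≤ Nat.card F) : ∃ a b : F, a ≠ 0 ∧ a ≠ 1 ∧ b ≠ 0 ∧ b ≠ 1 ∧ a ≠ b := by
  classical
  have : Fintype F := Fintype.ofFinite F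
  have h1 : 1 < (Finset.univ \ ({0, 1} : Finset F)).card := by
    have h2 := Finset.le_card_sdiff ({0, 1} : Finset F) Finset.univ
    have h3 : ({0, 1} : Finset F).card ≤ 2 := Finset.card_le_two
    rw [Finset.card_univ, ← Nat.card_eq_fintype_card] at h2
    omega
  obtain ⟨a, ha, b, hb, hab⟩ := Finset.one_lt_card.1 h1
  simp only [Finset.mem_sdiff, Finset.mem_univ, Finset.mem_insert, Finset.mem_singleton, not_or, true_and] at ha hb
  exact ⟨a, b, ha.1, ha.2, hb.1, hb.2, hab⟩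

/-- The contradiction of (N6). -/
theorem false (hk : 2 ≤ k) (hq : 4 ≤ Nat.card F) : False := by
  classical
  let i : Fin k := ⟨0, by omega⟩
  obtain ⟨D, hDE, hDz, hgen, htri, hρ⟩ := h.exists_D hk i
  obtain ⟨z, hzE, hzC, hz0⟩ := h.exists_z
  have hzD := hDz z hzE hzC
  have hgen' : ∀ e : G, ∃ x : F, e ∈ EQ S P → em M i ![x, 0] * e ∈ D := by
    intro e
    by_cases he : e ∈ EQ S P
    · obtain ⟨x, hx⟩ := hgen e he
      exact ⟨x, fun _ => hx⟩
    · exact ⟨0, fun h1 => absurd h1 he⟩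
  choose X hX using hgen'
  -- the form `θ`
  let th : G → F := fun e => M.e (em M i ![X e, 0] * e) i 0
  have hth : ∀ {κ : F} {g e : G}, IsTv M i D κ g → e ∈ EQ S P → g * e * g⁻¹ = e * em M i ![κ * th e, 0] :=
    fun h1 he => h.tv_act h1 he (hX _ he)
  have hthz : th z ≠ 0 := by
    have h1 : em M i ![X z, 0] ∈ D := (mul_mem_cancel_right hzD).1 (hX z hzE)
    have h2 := htri _ h1
    show M.e (em M i ![X z, 0] * z) i 0 ≠ 0
    rw [h2, em_zero', one_mul]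
    exact hz0 i
  -- the transvections
  have hτ : ∀ c : F, c ≠ 0 → ∃ g, IsTv M i D (c + 1) g := by
    intro c hc
    obtain ⟨ρ, -, h1, h2⟩ := hρ c⁻¹ (inv_ne_zero hc)
    obtain ⟨t, -, h3, h4⟩ := h.exists_diag i hc
    refine ⟨t * ρ, fun d hd => ?_, fun x => ?_⟩
    · have e1 : t * ρ * d * (t * ρ)⁻¹ = t * (ρ * d * ρ⁻¹) * t⁻¹ := by group
      rw [e1, h1 d hd, h4 d (hDE hd)]
    · have e1 : t * ρ * em M i ![x, 0] * (t * ρ)⁻¹ = t * (ρ * em M i ![x, 0] * ρ⁻¹) * t⁻¹ := by group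
      rw [e1, h2, h3, mul_inv_cancel_left₀ hc]
  obtain ⟨n, hn, hnB⟩ := exists_conj_mem S h.S_le_N (NOne.LemmaT.normalizer_le_normalizer_centralizer (EQ S P))
    (h.Bg_le hgen) (fun b hb => h.Bg_sq hgen hb)
  have hnE : ∀ e ∈ EQ S P, n⁻¹ * e * n ∈ EQ S P := fun e he => norm_mem' hn he
  -- the elements of `S`
  have key : ∀ c : F, c ≠ 0 → ∃ s ∈ S, ∀ e ∈ EQ S P,
      s * e * s⁻¹ = n * (n⁻¹ * e * n * em M i ![(c + 1) * th (n⁻¹ * e * n), 0]) * n⁻¹ := by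
    intro c hc
    obtain ⟨g, hg⟩ := hτ c hc
    obtain ⟨s, hs, κ, hκ, h1⟩ := hnB g ⟨_, hg⟩
    refine ⟨s, hs, fun e he => ?_⟩
    have h2 : s = n * g * n⁻¹ * κ⁻¹ := by rw [h1]; group
    have h3 : κ⁻¹ * e * κ = e := by
      rw [mul_assoc, mem_centralizer_iff.1 hκ e he, inv_mul_cancel_left]
    rw [← hth hg (hnE e he)]
    calc s * e * s⁻¹ = n * g * n⁻¹ * (κ⁻¹ * e * κ) * n * g⁻¹ * n⁻¹ := by rw [h2]; group
      _ = n * (g * (n⁻¹ * e * n) * g⁻¹) * n⁻¹ := by rw [h3]; group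
  -- facts on these elements
  have hemn : ∀ y : F, em M i ![y, 0] ∈ EQ S P := fun y => ⟨em_mem M i _, h.em_Q i y⟩
  have hadd : ∀ c : F, c ≠ 0 → c ≠ 1 → c + 1 ≠ 0 := fun c _ hc h1 => hc (CharTwo.add_eq_zero.1 h1)
  have hfix : ∀ c : F, c ≠ 0 → c ≠ 1 → ∀ s ∈ S, (∀ e ∈ EQ S P,
      s * e * s⁻¹ = n * (n⁻¹ * e * n * em M i ![(c + 1) * th (n⁻¹ * e * n), 0]) * n⁻¹) →
      ∀ x, sm M s x = x ↔ th (n⁻¹ * cE M x * n) = 0 := by
    intro c hc0 hc1 s hs hse x
    have hsN := h.S_le_N hs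
    have h1 := h.cE_sm hsN x
    rw [hse _ (h.cE_E x)] at h1
    constructor
    · intro h2
      rw [h2] at h1
      have h3 : em M i ![(c + 1) * th (n⁻¹ * cE M x * n), 0] = 1 := by
        have e1 : n * (n⁻¹ * cE M x * n * em M i ![(c + 1) * th (n⁻¹ * cE M x * n), 0]) * n⁻¹ =
            cE M x * (n * em M i ![(c + 1) * th (n⁻¹ * cE M x * n), 0] * n⁻¹) := by group
        rw [e1] at h1
        have h4 : n * em M i ![(c + 1) * th (n⁻¹ * cE M x * n), 0] * n⁻¹ = 1 := left_eq_mul.1 h1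
        have e2 : em M i ![(c + 1) * th (n⁻¹ * cE M x * n), 0] =
            n⁻¹ * (n * em M i ![(c + 1) * th (n⁻¹ * cE M x * n), 0] * n⁻¹) * n := by group
        rw [e2, h4]
        group
      exact (mul_eq_zero.1 (em_eq_one M i h3)).resolve_left (hadd c hc0 hc1)
    · intro h2
      rw [h2, mul_zero, em_zero', mul_one] at h1
      apply cE_inj M
      rw [h1]
      group
  have hinv : ∀ c : F, c ≠ 0 → ∀ s ∈ S, (∀ e ∈ EQ S P,
      s * e * s⁻¹ = n * (n⁻¹ * e * n * em M i ![(c + 1) * th (n⁻¹ * e * n), 0]) * n⁻¹) →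
      ∀ x, sm M s (sm M s x) = x := by
    intro c hc0 s hs hse x
    have hsN := h.S_le_N hs
    obtain ⟨g, hg⟩ := hτ c hc0
    have hse' : ∀ e ∈ EQ S P, s * e * s⁻¹ = n * (g * (n⁻¹ * e * n) * g⁻¹) * n⁻¹ := fun e he => by
      rw [hse e he, hth hg (hnE e he)]
    have hgg := mem_centralizer_iff.1 (h.Bg_sq hgen ⟨_, hg⟩ : g * g ∈ centralizer (EQ S P : Set G))
      _ (hnE _ (h.cE_E x))
    apply cE_inj M
    have hsc := norm_mem hsN (h.cE_E x)
    rw [h.cE_sm hsN, h.cE_sm hsN, hse' _ hsc, hse' _ (h.cE_E x)]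
    calc n * (g * (n⁻¹ * (n * (g * (n⁻¹ * cE M x * n) * g⁻¹) * n⁻¹) * n) * g⁻¹) * n⁻¹
        = n * (g * g * (n⁻¹ * cE M x * n)) * (g * g)⁻¹ * n⁻¹ := by group
      _ = n * (n⁻¹ * cE M x * n * (g * g)) * (g * g)⁻¹ * n⁻¹ := by rw [hgg]
      _ = cE M x := by group
  have hcard : ∀ c : F, c ≠ 0 → ∀ s ∈ S, (∀ e ∈ EQ S P,
      s * e * s⁻¹ = n * (n⁻¹ * e * n * em M i ![(c + 1) * th (n⁻¹ * e * n), 0]) * n⁻¹) →
      Nat.card F ^ k ≤ Nat.card F * Nat.card {x : Fin k → F // sm M s x = x} := by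
    intro c hc0 s hs hse
    have hsN := h.S_le_N hs
    let δ : (Fin k → F) →+ (Fin k → F) := AddMonoidHom.mk' (fun x => sm M s x - x) fun x y => by
      rw [h.sm_add hsN]; abel
    have h1 := δ.ker.card_mul_index
    rw [AddSubgroup.index_ker] at h1
    have h2 : Nat.card (Fin k → F) = Nat.card F ^ k := by
      rw [Nat.card_fun, Nat.card_eq_fintype_card (α := Fin k), Fintype.card_fin]
    have h3 : Nat.card δ.ker = Nat.card {x : Fin k → F // sm M s x = x} := by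
      refine Nat.card_congr (Equiv.subtypeEquivRight fun x => ?_)
      rw [AddMonoidHom.mem_ker]
      exact sub_eq_zero
    let f : F → Fin k → F := fun y j => M.e (n * em M i ![y, 0] * n⁻¹) j 0
    have h4 : Nat.card δ.range ≤ Nat.card F := by
      refine (Nat.card_mono (Set.toFinite (Set.range f)) (s := (δ.range : Set (Fin k → F))) ?_).trans
        (Finite.card_range_le f)
      rintro _ ⟨x, rfl⟩
      refine ⟨(c + 1) * th (n⁻¹ * cE M x * n), ?_⟩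
      funext j
      show M.e (n * em M i ![(c + 1) * th (n⁻¹ * cE M x * n), 0] * n⁻¹) j 0 = sm M s x j - x j
      have h5 := hse _ (h.cE_E x)
      have e1 : n * (n⁻¹ * cE M x * n * em M i ![(c + 1) * th (n⁻¹ * cE M x * n), 0]) * n⁻¹ =
          cE M x * (n * em M i ![(c + 1) * th (n⁻¹ * cE M x * n), 0] * n⁻¹) := by group
      rw [e1] at h5
      have h6 : n * em M i ![(c + 1) * th (n⁻¹ * cE M x * n), 0] * n⁻¹ ∈ EQ S P := norm_mem hn (hemn _)
      have h7 : sm M s x j = M.e (s * cE M x * s⁻¹) j 0 := rfl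
      rw [h7, h5, M.mul _ (cE_V M x) _ h6.1, e_cE, Pi.add_apply, Pi.add_apply]
      simp
    rw [h2, h3] at h1
    rw [← h1, mul_comm]
    exact Nat.mul_le_mul_right _ h4
  obtain ⟨a, b, ha0, ha1, hb0, hb1, hab⟩ := exists_two hq
  obtain ⟨s, hs, hse⟩ := key a ha0
  obtain ⟨t, ht, hte⟩ := key b hb0
  have hst := same (h.mono hs) (h.mono ht) (hinv a ha0 s hs hse) (hinv b hb0 t ht hte)
    (fun x => (hfix a ha0 ha1 s hs hse x).trans (hfix b hb0 hb1 t ht hte x).symm) (hcard a ha0 s hs hse)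
  -- the contradiction at `z`
  have hzn : n * z * n⁻¹ ∈ EQ S P := norm_mem hn hzE
  have h1 : s * (n * z * n⁻¹) * s⁻¹ = t * (n * z * n⁻¹) * t⁻¹ := by
    rw [← h.cE_of hzn, ← h.cE_sm (h.S_le_N hs), ← h.cE_sm (h.S_le_N ht), hst]
  rw [hse _ hzn, hte _ hzn] at h1
  have e1 : n⁻¹ * (n * z * n⁻¹) * n = z := by group
  rw [e1] at h1
  have h2 : em M i ![(a + 1) * th z, 0] = em M i ![(b + 1) * th z, 0] :=
    mul_left_cancel (mul_left_cancel (mul_right_cancel h1))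
  have h3 := congrArg (fun v => M.e v i 0) h2
  simp only [e_em_self] at h3
  have h4 : (a + 1) * th z = (b + 1) * th z := by simpa using h3
  exact hab (add_right_cancel (mul_right_cancel₀ hthz h4))

end CaseQ

/-- **(N6) of THEOREM WR.**  Case (Q), `|F| ≥ 4`, `k ≥ 2` is impossible. -/
theorem main (h : Cfg S P) (M : NatK F (S : Subgroup G) P (zl (S : Subgroup G) P) ⊥ k) (hk : 2 ≤ k)
    (hq : 4 ≤ Nat.card F)
    (hE : ∀ v ∈ zl (S : Subgroup G) P, v ∈ o2 (CC (S : Subgroup G)) ↔ ∀ i, M.e v i 1 = 0) : False :=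
  CaseQ.false (M := M) ⟨h, hE⟩ hk hq

end Cfsg.Agent.Omega.NO1.NSix
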