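import Cfsg.Agent.Omega.NO1.NSix.Semi
import Cfsg.Agent.Omega.NO1.NSix.Spread
import Cfsg.Agent.Omega.NO1.Cfg

/-!
# (N6) of THEOREM WR (#15037, helper675), step 0: case (Q)

`M : NatK F S P V ⊥ k`, `V ∩ Q = {v | all second coordinates are 0}`.  Then `Q` fixes the summands and acts as
`(x, y) ↦ (x + ν_i(f) y, y)` on the `i`-th one; `V ∩ Q` is central in `Q`.
-/

set_option autoImplicit false
set_option linter.unusedSectionVars false

namespace Cfsg.Agent.Omega.NO1.NSix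

open Subgroup Cfsg Cfsg.Agent.ZN Cfsg.Agent.Omega.FFThm Cfsg.Agent.Omega.Half Cfsg.Agent.Omega.MinPar
open Cfsg.Agent.Omega.Half.NatA
open Cfsg.Agent.Omega.NoFF.LinesPlug (CC)
open Cfsg.Agent.MinSimple.VModule (o2_isPGroup)
open Cfsg.Agent.Omega.NOne.Frame (norm_mem norm_mem' comm_mem_inf)
open scoped Pointwise

universe u

variable {G : Type u} [Group G] [Finite G] {S : Sylow 2 G} {P : Subgroup G}
variable {F : Type} [Field F] [Finite F] [CharP F 2] {k : ℕ}

/-- Case (Q). -/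
structure CaseQ (M : NatK F (S : Subgroup G) P (zl (S : Subgroup G) P) ⊥ k) : Prop where
  cfg : Cfg S P
  hE : ∀ v ∈ zl (S : Subgroup G) P, v ∈ o2 (CC (S : Subgroup G)) ↔ ∀ i, M.e v i 1 = 0

namespace CaseQ

variable {M : NatK F (S : Subgroup G) P (zl (S : Subgroup G) P) ⊥ k} (h : CaseQ M)
include h

theorem amb : Amb (S : Subgroup G) P (zl (S : Subgroup G) P) := amb_of_loc h.cfg.ctx.char2 S h.cfg.loc

theorem am : Am (CC (S : Subgroup G)) (zl (S : Subgroup G) P) :=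
  ⟨h.cfg.V_le_CC, h.cfg.V_comm, h.cfg.V_sq, h.cfg.Q_norm_V⟩

theorem Q_le_P {f : G} (hf : f ∈ o2 (CC (S : Subgroup G))) : f ∈ P := h.cfg.S_le (h.cfg.Q_le_S hf)

theorem comm_mem {f v : G} (hf : f ∈ o2 (CC (S : Subgroup G))) (hv : v ∈ zl (S : Subgroup G) P) :
    f * v * f⁻¹ * v⁻¹ ∈ zl (S : Subgroup G) P ⊓ o2 (CC (S : Subgroup G)) := by
  have := comm_mem_inf h.cfg.Q_norm_V (h.cfg.V_le_CC.trans (le_normalizer_o2 _)) hf hv
  rwa [inf_comm] at this

theorem snd {f v : G} (hf : f ∈ o2 (CC (S : Subgroup G))) (hv : v ∈ zl (S : Subgroup G) P) (i : Fin k) :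
    M.e (f * v * f⁻¹) i 1 = M.e v i 1 := by
  have h1 := h.comm_mem hf hv
  have h2 := (h.hE _ h1.1).1 h1.2 i
  rw [M.mul _ (h.amb.conj_mem (h.Q_le_P hf) hv) _ (inv_mem hv), e_inv M hv, Pi.add_apply, Pi.neg_apply,
    Pi.add_apply, Pi.neg_apply, add_neg_eq_zero] at h2
  exact h2

/-- `Q` fixes the summands -/
theorem mv {f : G} (hf : f ∈ o2 (CC (S : Subgroup G))) : Mv M f 1 := by
  obtain ⟨σ, hσ⟩ := M.perm f (h.Q_le_P hf)
  have h1 : σ = 1 := by
    ext1 i
    by_contra hne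
    have hne' : σ i ≠ i := hne
    -- the vector at `σ i`
    have h2 := h.snd hf (em_mem M (σ i) ![0, 1]) (σ i)
    have h3 := (hσ _ (em_mem M (σ i) ![0, 1]) i).2 (e_em_ne M hne'.symm _)
    rw [h3, e_em_self] at h2
    exact zero_ne_one h2
  rw [← h1]
  exact hσ

theorem e_conj {f v : G} (hf : f ∈ o2 (CC (S : Subgroup G))) (hv : v ∈ zl (S : Subgroup G) P) (i : Fin k) :
    M.e (f * v * f⁻¹) i = ph M f i i (M.e v i) :=
  NSix.e_conj h.amb (h.Q_le_P hf) (h.mv hf) hv i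

theorem ph_snd {f : G} (hf : f ∈ o2 (CC (S : Subgroup G))) (i : Fin k) (x : Fin 2 → F) :
    ph M f i i x 1 = x 1 := by
  rw [ph, h.snd hf (em_mem M i x), e_em_self]

theorem ph_smul {f : G} (hf : f ∈ o2 (CC (S : Subgroup G))) (i : Fin k) (c : F) (x : Fin 2 → F) :
    ph M f i i (c • x) = c • ph M f i i x := by
  obtain ⟨τ, hτ⟩ := exists_semi h.amb (h.Q_le_P hf) (h.mv hf) i
  have hτ' : ∀ (c : F) x, ph M f i i (c • x) = τ c • ph M f i i x := hτ
  have h1 : ∀ c, τ c = c := by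
    intro c
    have h2 := congrFun (hτ' c ![0, 1]) 1
    rw [h.ph_snd hf, Pi.smul_apply, Pi.smul_apply, h.ph_snd hf] at h2
    simpa using h2.symm
  rw [hτ', h1]

/-- `f` on the line -/
theorem ph_line {f : G} (hf : f ∈ o2 (CC (S : Subgroup G))) (i : Fin k) : ph M f i i ![1, 0] = ![1, 0] := by
  have hz : ph M f i i ![1, 0] 1 = 0 := by rw [h.ph_snd hf]; rfl
  obtain ⟨a, ha⟩ : ∃ a, ph M f i i ![1, 0] = ![a, 0] := by
    refine ⟨ph M f i i ![1, 0] 0, ?_⟩
    ext j
    fin_cases j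
    · rfl
    · exact hz
  have h1 : ∀ c : F, f * em M i ![c, 0] * f⁻¹ = em M i ![a * c, 0] := by
    intro c
    apply inj M (h.amb.conj_mem (h.Q_le_P hf) (em_mem M i _)) (em_mem M i _)
    funext j
    by_cases hj : j = i
    · rw [hj, h.e_conj hf (em_mem M i _), e_em_self, e_em_self]
      have e1 : (![c, 0] : Fin 2 → F) = c • ![1, 0] := by simp
      rw [e1, h.ph_smul hf, ha]
      simp [mul_comm]
    · rw [e_em_ne M hj]
      exact (h.mv hf _ (em_mem M i _) j).2 (e_em_ne M hj _)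
  have h2 : ∀ m : ℕ, f ^ m * em M i ![1, 0] * (f ^ m)⁻¹ = em M i ![a ^ m, 0] := by
    intro m
    induction m with
    | zero => simp
    | succ m ih =>
      have e1 : f ^ (m + 1) * em M i ![1, 0] * (f ^ (m + 1))⁻¹ =
          f * (f ^ m * em M i ![1, 0] * (f ^ m)⁻¹) * f⁻¹ := by rw [pow_succ']; group
      rw [e1, ih, h1, pow_succ']
  obtain ⟨n, hn⟩ := (o2_isPGroup (CC (S : Subgroup G))) ⟨f, hf⟩
  have hn' : f ^ 2 ^ n = 1 := congrArg Subtype.val hn
  have h3 := h2 (2 ^ n)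
  rw [hn', one_mul, inv_one, mul_one] at h3
  have h4 := congrArg (fun v => M.e v i 0) h3
  simp only [e_em_self] at h4
  have h5 : a ^ 2 ^ n = 1 := by simpa using h4.symm
  have h6 : (a - 1) ^ 2 ^ n = 0 := by
    have : Fact (Nat.Prime 2) := ⟨Nat.prime_two⟩
    rw [sub_pow_char_pow, h5, one_pow, sub_self]
  have h7 : a = 1 := sub_eq_zero.1 (eq_zero_of_pow_eq_zero h6)
  rw [ha, h7]

/-- the coordinate `ν_i` -/
noncomputable def nu (M : NatK F (S : Subgroup G) P (zl (S : Subgroup G) P) ⊥ k) (i : Fin k) (f : G) : F :=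
  ph M f i i ![0, 1] 0

/-- **the action of `Q` on `V`** -/
theorem act {f v : G} (hf : f ∈ o2 (CC (S : Subgroup G))) (hv : v ∈ zl (S : Subgroup G) P) (i : Fin k) :
    M.e (f * v * f⁻¹) i = ![M.e v i 0 + nu M i f * M.e v i 1, M.e v i 1] := by
  rw [h.e_conj hf hv]
  have e1 : M.e v i = M.e v i 0 • ![1, 0] + M.e v i 1 • ![0, 1] := by
    ext j
    fin_cases j <;> simp
  have e2 : ph M f i i ![0, 1] = ![nu M i f, 1] := by
    ext j
    fin_cases j
    · rfl
    · exact h.ph_snd hf i _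
  conv_lhs => rw [e1]
  rw [ph_add h.amb (h.Q_le_P hf), h.ph_smul hf, h.ph_smul hf, h.ph_line hf, e2]
  ext j
  fin_cases j
  · simp [mul_comm]
  · simp

omit h in
theorem vec_eq {x : Fin 2 → F} (hx : x 1 = 0) : x = ![x 0, 0] := by
  ext j
  fin_cases j
  · rfl
  · exact hx

theorem nu_mul {w f : G} (hw : w ∈ o2 (CC (S : Subgroup G))) (hf : f ∈ o2 (CC (S : Subgroup G))) (i : Fin k) :
    nu M i (w * f) = nu M i w + nu M i f := by
  have hv := em_mem M i ![0, 1]
  have e1 : w * f * em M i ![0, 1] * (w * f)⁻¹ = w * (f * em M i ![0, 1] * f⁻¹) * w⁻¹ := by group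
  have h1 := h.act hw (h.amb.conj_mem (h.Q_le_P hf) hv) i
  rw [← e1, h.act hf hv i, e_em_self] at h1
  have h2 := congrFun h1 0
  simp only [Matrix.cons_val_zero, Matrix.cons_val_one, mul_one, zero_add] at h2
  have h3 : nu M i (w * f) = M.e (w * f * em M i ![0, 1] * (w * f)⁻¹) i 0 := rfl
  rw [h3, h2, add_comm]

/-- `V ∩ Q ≤ Z(Q)` -/
theorem cent {e w : G} (he : e ∈ zl (S : Subgroup G) P ⊓ o2 (CC (S : Subgroup G)))
    (hw : w ∈ o2 (CC (S : Subgroup G))) : w * e = e * w := by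
  have h0 := (h.hE e he.1).1 he.2
  have h1 : w * e * w⁻¹ = e := by
    apply inj M (h.amb.conj_mem (h.Q_le_P hw) he.1) he.1
    funext i
    rw [h.act hw he.1 i, h0 i, mul_zero, add_zero]
    exact (vec_eq (h0 i)).symm
  calc w * e = w * e * w⁻¹ * w := by group
    _ = e * w := by rw [h1]

theorem em_Q (i : Fin k) (x : F) : em M i ![x, 0] ∈ o2 (CC (S : Subgroup G)) := by
  refine (h.hE _ (em_mem M i _)).2 fun j => ?_
  by_cases hj : j = i
  · rw [hj, e_em_self]; rfl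
  · rw [e_em_ne M hj]; rfl

/-- the datum of `Spread.lean` -/
noncomputable def sp (i : Fin k) :
    Sp F (zl (S : Subgroup G) P) (o2 (CC (S : Subgroup G))) (fac M {i}) where
  l x := em M i ![x, 0]
  br v := M.e v i 1
  nu := nu M i
  UV := fac_le M _
  l_add x y := by
    rw [← em_add]
    congr 1
    ext j
    fin_cases j <;> simp
  l_one x hx := by
    have h1 := congrArg (fun v => M.e v i 0) hx
    simp only [e_em_self, e_one] at h1
    simpa using h1
  l_U x := em_fac M i _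
  l_Q x := h.em_Q i x
  br_surj a := ⟨em M i ![0, a], em_fac M i _, by rw [e_em_self]; rfl⟩
  nu_mul w hw f hf := h.nu_mul hw hf i
  act u hu w hw := by
    have huV := hu.1
    have h1 := h.amb.conj_mem (h.Q_le_P hw) (inv_mem huV)
    have e1 : u * w * u⁻¹ * w⁻¹ = u * (w * u⁻¹ * w⁻¹) := by group
    rw [e1]
    apply inj M (mul_mem huV h1) (em_mem M i _)
    rw [M.mul _ huV _ h1]
    funext j
    rw [Pi.add_apply]
    by_cases hj : j = i
    · rw [hj, e_em_self, h.act hw (inv_mem huV), e_inv M huV]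
      ext m
      fin_cases m
      · simp [CharTwo.neg_eq, mul_comm]
        rw [← add_assoc, CharTwo.add_self_eq_zero, zero_add]
      · simp
    · rw [e_em_ne M hj, hu.2 j hj, zero_add, h.act hw (inv_mem huV), e_inv M huV]
      ext m
      fin_cases m
      · simp [hu.2 j hj]
      · simp [hu.2 j hj]
  cent e he w hw := h.cent he hw

end CaseQ

end Cfsg.Agent.Omega.NO1.NSix
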