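import Cfsg.Agent.Omega.Half.AppNat

/-!
# Natural modules `M : NatK F T H V ⊥ k`: `H` acts semilinearly on the summands (project OMEGA, helper675)

* `em M i x` : the element of `V` with coordinate `x` at `i` and `0` elsewhere;
* `exists_semi` : `g ∈ H` permutes the summands by `σ`; for every `i` there is `τ : F ≃+* F` such that
  `e (g v g⁻¹) (σ i) = φ (e v i)` with `φ` additive and `φ (c x) = τ c • φ x`;
* `mem_of_em` : a subgroup of `V` which contains all components of `v` contains `v`.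
-/

set_option autoImplicit false
set_option linter.unusedSectionVars false

namespace Cfsg.Agent.Omega.NO1.NSix

open Subgroup Cfsg Cfsg.Agent.ZN Cfsg.Agent.Omega.FFThm Cfsg.Agent.Omega.Half
open Cfsg.Agent.Omega.Half.NatA
open Cfsg.Agent.Omega.NatPair (ap ap_one ap_add exists_ringEquiv)

universe u

variable {G : Type u} [Group G] {F : Type} [Field F] {T H V : Subgroup G} {k : ℕ}

section emb

variable (M : NatK F T H V ⊥ k)

/-- the element of `V` with coordinate `x` at `i` and `0` elsewhere -/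
noncomputable def em (i : Fin k) (x : Fin 2 → F) : G := (M.surj (Function.update (0 : Fin k → Fin 2 → F) i x)).choose

theorem em_mem (i : Fin k) (x : Fin 2 → F) : em M i x ∈ V := (M.surj (Function.update (0 : Fin k → Fin 2 → F) i x)).choose_spec.1

theorem e_em (i : Fin k) (x : Fin 2 → F) : M.e (em M i x) = Function.update (0 : Fin k → Fin 2 → F) i x :=
  (M.surj (Function.update (0 : Fin k → Fin 2 → F) i x)).choose_spec.2

theorem e_em_self (i : Fin k) (x : Fin 2 → F) : M.e (em M i x) i = x := by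
  rw [e_em, Function.update_self]

theorem e_em_ne {i j : Fin k} (hj : j ≠ i) (x : Fin 2 → F) : M.e (em M i x) j = 0 := by
  rw [e_em, Function.update_of_ne hj, Pi.zero_apply]

theorem em_fac (i : Fin k) (x : Fin 2 → F) : em M i x ∈ fac M {i} :=
  ⟨em_mem M i x, fun _ hj => e_em_ne M hj x⟩

theorem em_eq {i : Fin k} {v : G} (hv : v ∈ V) (h : ∀ j, j ≠ i → M.e v j = 0) : em M i (M.e v i) = v := by
  apply inj M (em_mem M i _) hv
  funext j
  by_cases hj : j = i
  · rw [hj, e_em_self]
  · rw [e_em_ne M hj, h j hj]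

theorem em_add (i : Fin k) (x y : Fin 2 → F) : em M i (x + y) = em M i x * em M i y := by
  apply inj M (em_mem M i _) (mul_mem (em_mem M i x) (em_mem M i y))
  rw [M.mul _ (em_mem M i x) _ (em_mem M i y)]
  funext j
  rw [Pi.add_apply]
  by_cases hj : j = i
  · rw [hj, e_em_self, e_em_self, e_em_self]
  · rw [e_em_ne M hj, e_em_ne M hj, e_em_ne M hj, add_zero]

theorem em_zero (i : Fin k) : em M i 0 = 1 := by
  apply eq_one M (em_mem M i 0)
  funext j
  by_cases hj : j = i
  · rw [hj, e_em_self]; rfl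
  · rw [e_em_ne M hj]; rfl

/-- A subgroup which contains all components of `v` contains `v`. -/
theorem mem_of_em {D : Subgroup G} {v : G} (hv : v ∈ V) (h : ∀ j, em M j (M.e v j) ∈ D) : v ∈ D := by
  classical
  have key : ∀ s : Finset (Fin k), ∀ v ∈ V, (∀ j, j ∉ s → M.e v j = 0) → (∀ j, em M j (M.e v j) ∈ D) → v ∈ D := by
    intro s
    induction s using Finset.induction_on with
    | empty =>
      intro v hv h0 _
      have : v = 1 := eq_one M hv (funext fun j => h0 j (Finset.notMem_empty j))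
      rw [this]
      exact one_mem D
    | insert a s has ih =>
      intro v hv h0 h1
      have ha := em_mem M a (M.e v a)
      have hc : ∀ j, M.e (v * (em M a (M.e v a))⁻¹) j = M.e v j - M.e (em M a (M.e v a)) j := fun j => by
        rw [M.mul v hv _ (inv_mem ha), e_inv M ha, Pi.add_apply, Pi.neg_apply, sub_eq_add_neg]
      have hca : M.e (v * (em M a (M.e v a))⁻¹) a = 0 := by rw [hc, e_em_self, sub_self]
      have hcj : ∀ j, j ≠ a → M.e (v * (em M a (M.e v a))⁻¹) j = M.e v j := fun j hj => by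
        rw [hc, e_em_ne M hj, sub_zero]
      have h2 : v * (em M a (M.e v a))⁻¹ ∈ D := by
        refine ih _ (mul_mem hv (inv_mem ha)) (fun j hj => ?_) fun j => ?_
        · by_cases hja : j = a
          · rw [hja]; exact hca
          · rw [hcj j hja]
            exact h0 j fun h' => (Finset.mem_insert.1 h').elim hja hj
        · by_cases hja : j = a
          · rw [hja, hca, em_zero]; exact one_mem D
          · rw [hcj j hja]; exact h1 j
      have h3 : v = v * (em M a (M.e v a))⁻¹ * em M a (M.e v a) := by group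
      rw [h3]
      exact mul_mem h2 (h1 a)
  exact key Finset.univ v hv (fun j hj => absurd (Finset.mem_univ j) hj) h

end emb

section semi

variable {M : NatK F T H V ⊥ k} (hA : Amb T H V)
include hA

/-- `g` as a map from the `i`-th summand to the `j`-th -/
noncomputable def ph (M : NatK F T H V ⊥ k) (g : G) (i j : Fin k) (x : Fin 2 → F) : Fin 2 → F :=
  M.e (g * em M i x * g⁻¹) j

/-- the coordinate of `g v g⁻¹` -/
theorem e_conj {g : G} {σ : Equiv.Perm (Fin k)} (hg : g ∈ H) (hσ : Mv M g σ) {v : G} (hv : v ∈ V) (i : Fin k) :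
    M.e (g * v * g⁻¹) (σ i) = ph M g i (σ i) (M.e v i) := by
  have he := em_mem M i (M.e v i)
  have h1 : M.e (v * (em M i (M.e v i))⁻¹) i = 0 := by
    rw [M.mul v hv _ (inv_mem he), e_inv M he, Pi.add_apply, Pi.neg_apply, e_em_self, add_neg_cancel]
  have h2 := (hσ _ (mul_mem hv (inv_mem he)) i).2 h1
  have e1 : g * (v * (em M i (M.e v i))⁻¹) * g⁻¹ = g * v * g⁻¹ * (g * em M i (M.e v i) * g⁻¹)⁻¹ := by group
  have h3 := hA.conj_mem hg hv
  have h4 := hA.conj_mem hg he
  rw [e1, M.mul _ h3 _ (inv_mem h4), e_inv M h4, Pi.add_apply, Pi.neg_apply, add_neg_eq_zero] at h2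
  exact h2

theorem ph_add {g : G} (hg : g ∈ H) (i j : Fin k) (x y : Fin 2 → F) :
    ph M g i j (x + y) = ph M g i j x + ph M g i j y := by
  have e1 : g * em M i (x + y) * g⁻¹ = g * em M i x * g⁻¹ * (g * em M i y * g⁻¹) := by
    rw [em_add]; group
  rw [ph, e1, M.mul _ (hA.conj_mem hg (em_mem M i x)) _ (hA.conj_mem hg (em_mem M i y))]
  rfl

theorem ph_inv {g : G} {σ : Equiv.Perm (Fin k)} (hg : g ∈ H) (hσ : Mv M g σ) (i : Fin k) (x : Fin 2 → F) :
    ph M g⁻¹ (σ i) i (ph M g i (σ i) x) = x := by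
  have h1 := e_conj hA (inv_mem hg) (hσ.inv M hA hg) (hA.conj_mem hg (em_mem M i x)) (σ i)
  rw [σ.symm_apply_apply] at h1
  have e1 : g⁻¹ * (g * em M i x * g⁻¹) * g⁻¹⁻¹ = em M i x := by group
  rw [e1, e_em_self] at h1
  exact h1.symm

theorem ph_inv' {g : G} {σ : Equiv.Perm (Fin k)} (hg : g ∈ H) (hσ : Mv M g σ) (i : Fin k) (x : Fin 2 → F) :
    ph M g i (σ i) (ph M g⁻¹ (σ i) i x) = x := by
  have h1 := ph_inv hA (inv_mem hg) (hσ.inv M hA hg) (σ i) x
  rw [σ.symm_apply_apply, inv_inv] at h1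
  exact h1

/-- **`H` acts semilinearly.** -/
theorem exists_semi [Finite F] {g : G} {σ : Equiv.Perm (Fin k)} (hg : g ∈ H) (hσ : Mv M g σ) (i : Fin k) :
    ∃ τ : F ≃+* F, ∀ (c : F) x, ph M g i (σ i) (c • x) = τ c • ph M g i (σ i) x := by
  classical
  obtain ⟨σ', hσ'⟩ := NatPair.exists_semi (ph M g i (σ i)) (ph M g⁻¹ (σ i) i) (ph_add hA hg i (σ i))
    (ph_inv hA hg hσ i) (ph_inv' hA hg hσ i) (by
      intro A
      obtain ⟨h0, hh0, hA0, -⟩ := M.lift (Function.update 1 (σ i) A)
      obtain ⟨B, hB⟩ := M.norm g⁻¹ (inv_mem hg) h0 hh0 _ hA0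
      refine ⟨B i, fun x => ?_⟩
      have h1 := hB _ (em_mem M i x) i
      rw [e_em_self] at h1
      rw [← h1]
      have hx := em_mem M i x
      have h2 := hA.conj_mem hg hx
      have h3 := hA.conj_mem hh0 h2
      have e1 : g⁻¹ * h0 * g⁻¹⁻¹ * em M i x * (g⁻¹ * h0 * g⁻¹⁻¹)⁻¹ =
          g⁻¹ * (h0 * (g * em M i x * g⁻¹) * h0⁻¹) * g⁻¹⁻¹ := by group
      have h4 := e_conj hA (inv_mem hg) (hσ.inv M hA hg) h3 (σ i)
      rw [σ.symm_apply_apply, hA0 _ h2 (σ i), Function.update_self] at h4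
      rw [e1, h4]
      rfl)
  exact exists_ringEquiv _ _ (ph_add hA hg i (σ i)) (ph_inv hA hg hσ i) σ' hσ'

end semi

end Cfsg.Agent.Omega.NO1.NSix
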