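import Cfsg.Agent.Omega.NO1.NSix.LineQ

/-!
# (N6) of THEOREM WR (#15037, helper675), step 2: `L_i ∩ D = 1`
-/

set_option autoImplicit false
set_option linter.unusedSectionVars false

namespace Cfsg.Agent.Omega.NO1.NSix

open Subgroup Cfsg Cfsg.Agent.ZN Cfsg.Agent.Omega.FFThm Cfsg.Agent.Omega.Half Cfsg.Agent.Omega.MinPar
open Cfsg.Agent.Omega.Half.NatA
open Cfsg.Agent.Omega.NoFF.LinesPlug (CC)
open Cfsg.Agent.Omega.NOne.Frame (norm_mem mem_conj' X)
open Cfsg.Agent.MinSimple.VModule (o2_isPGroup)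
open scoped Pointwise

universe u

variable {G : Type u} [Group G] [Finite G] {S : Sylow 2 G} {P : Subgroup G}
variable {F : Type} [Field F] [Finite F] [CharP F 2] {k : ℕ}

theorem em_line_add (M : NatK F (S : Subgroup G) P (zl (S : Subgroup G) P) ⊥ k) (i : Fin k) (x y : F) :
    em M i ![x + y, 0] = em M i ![x, 0] * em M i ![y, 0] := by
  rw [← em_add]
  congr 1
  ext j
  fin_cases j <;> simp

namespace CaseQ

variable {M : NatK F (S : Subgroup G) P (zl (S : Subgroup G) P) ⊥ k} (h : CaseQ M)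
include h

/-- **Step 2.** -/
theorem line_tri (hk : 2 ≤ k) (i : Fin k) {y : G} (hyX : y ∈ X (fac M {i}) y)
    (hX : ¬ IsPGroup 2 (X (fac M {i}) y))
    (hgen : ∀ e ∈ zl (S : Subgroup G) P ⊓ o2 (CC (S : Subgroup G)), ∃ x : F, em M i ![x, 0] * e⁻¹ ∈
      (zl (S : Subgroup G) P ⊓ o2 (CC (S : Subgroup G))) ⊓
        MulAut.conj y • (zl (S : Subgroup G) P ⊓ o2 (CC (S : Subgroup G)))) (x : F)
    (hx : em M i ![x, 0] ∈ MulAut.conj y • (zl (S : Subgroup G) P ⊓ o2 (CC (S : Subgroup G)))) : x = 0 := by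
  classical
  by_contra hx0
  set E := zl (S : Subgroup G) P ⊓ o2 (CC (S : Subgroup G)) with hEdef
  set D := E ⊓ MulAut.conj y • E with hDdef
  have hemE : ∀ (j : Fin k) (z : F), em M j ![z, 0] ∈ E := fun j z => ⟨em_mem M j _, h.em_Q j z⟩
  have hxD : em M i ![x, 0] ∈ D := ⟨hemE i x, hx⟩
  have hDV : D ≤ zl (S : Subgroup G) P := inf_le_left.trans inf_le_left
  -- every line meets `D`
  have hz : ∀ j : Fin k, ∃ z : F, z ≠ 0 ∧ em M j ![z, 0] ∈ D := by
    intro j
    by_contra hno
    push Not at hno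
    have hex : ∀ z : F, ∃ ξ : F, em M i ![ξ, 0] * (em M j ![z, 0])⁻¹ ∈ D := fun z => hgen _ (hemE j z)
    choose ξ hξ using hex
    let f : F × Bool → F := fun p => ξ p.1 + if p.2 then x else 0
    have hb : ∀ b : Bool, em M i ![if b then x else 0, 0] ∈ D := by
      intro b
      cases b
      · have e1 : (![if false = true then x else 0, 0] : Fin 2 → F) = 0 := by
          ext m
          fin_cases m <;> simp
        rw [e1, em_zero]
        exact one_mem D
      · exact hxD
    have hinj : Function.Injective f := by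
      rintro ⟨z, b⟩ ⟨z', b'⟩ heq
      have h1 : ξ z + (if b then x else 0) = ξ z' + (if b' then x else 0) := heq
      have h2 : em M i ![ξ z, 0] * em M i ![if b then x else 0, 0] =
          em M i ![ξ z', 0] * em M i ![if b' then x else 0, 0] := by
        rw [← em_line_add, ← em_line_add, h1]
      have h3 : em M j ![z, 0] * (em M j ![z', 0])⁻¹ ∈ D := by
        have e1 : em M j ![z, 0] * (em M j ![z', 0])⁻¹ =
            (em M i ![ξ z, 0] * (em M j ![z, 0])⁻¹)⁻¹ * (em M i ![ξ z, 0] * (em M i ![ξ z', 0])⁻¹) *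
              (em M i ![ξ z', 0] * (em M j ![z', 0])⁻¹) := by group
        rw [e1]
        refine mul_mem (mul_mem (inv_mem (hξ z)) ?_) (hξ z')
        have h4 : em M i ![ξ z, 0] = em M i ![ξ z', 0] * em M i ![if b' then x else 0, 0] *
            (em M i ![if b then x else 0, 0])⁻¹ := by rw [← h2]; group
        have hc : em M i ![ξ z', 0] * (em M i ![if b' then x else 0, 0] * (em M i ![if b then x else 0, 0])⁻¹) =
            em M i ![if b' then x else 0, 0] * (em M i ![if b then x else 0, 0])⁻¹ * em M i ![ξ z', 0] :=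
          h.amb.comm _ (em_mem M i _) _ (mul_mem (em_mem M i _) (inv_mem (em_mem M i _)))
        rw [h4, mul_assoc (em M i ![ξ z', 0]), hc, mul_inv_cancel_right]
        exact mul_mem (hb b') (inv_mem (hb b))
      have h5 : z = z' := by
        by_contra hne
        refine hno (z - z') (sub_ne_zero.2 hne) ?_
        have e1 : em M j ![z - z', 0] = em M j ![z, 0] * (em M j ![z', 0])⁻¹ := by
          rw [eq_mul_inv_iff_mul_eq, ← em_line_add, sub_add_cancel]
        rwa [e1]
      subst h5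
      have h6 := add_left_cancel h1
      have h7 : b = b' := by
        cases b <;> cases b'
        · rfl
        · exact absurd h6.symm hx0
        · exact absurd h6 hx0
        · rfl
      rw [h7]
    have hle := Nat.card_le_card_of_injective f hinj
    rw [Nat.card_prod] at hle
    have h2 : Nat.card Bool = 2 := by simp
    rw [h2] at hle
    have h3 : 0 < Nat.card F := Nat.card_pos
    omega
  choose z hz0 hzD using hz
  obtain ⟨B₀, hB₀, hi⟩ := exists_blk S M h.amb hk i
  have hB := hB₀.compl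
  obtain ⟨w, hw, hwe⟩ := M.surj fun j => if j ∈ B₀ᶜ then ![z j, 0] else 0
  have hwB : w ∈ fac M B₀ᶜ := ⟨hw, fun j hj => by rw [hwe]; exact if_neg hj⟩
  have hfull : ∀ j ∈ B₀ᶜ, M.e w j ≠ 0 := by
    intro j hj h0
    rw [hwe] at h0
    simp only [if_pos hj] at h0
    exact hz0 j (congrFun h0 0)
  have hwD : w ∈ D := by
    refine mem_of_em M hw fun j => ?_
    rw [hwe]
    by_cases hj : j ∈ B₀ᶜ
    · simp only [if_pos hj]
      exact hzD j
    · simp only [if_neg hj]
      rw [em_zero]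
      exact one_mem D
  have happ := (app_nat h.cfg.ctx.char2 S h.amb hB hwB hfull).1
  rw [compl_compl] at happ
  have hU : fac M {i} ≤ fac M B₀ := fun v hv => ⟨hv.1, fun j hj => hv.2 j fun h1 => hj (by rw [h1]; exact hi)⟩
  have hXC : X (fac M {i}) y ≤ centralizer ({w} : Set G) := by
    intro t ht
    rw [mem_centralizer_singleton_iff]
    exact NOne.NearFF.cent_of_fr (Q := o2 (CC (S : Subgroup G))) h.cfg.V_comm t
      (sup_le_sup (fac_le M _) (NoFF.Basic.conj_le_iff.2 (fac_le M _)) ht) w hwD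
  apply hX
  refine (o2_isPGroup (centralizer ({w} : Set G))).to_le (sup_le (hU.trans happ) ?_)
  intro t ht
  obtain ⟨a, ha, rfl⟩ := mem_conj'.1 ht
  exact norm_mem (MinSimple.VModule.le_normalizer_o2 _ (hXC hyX)) (happ (hU ha))

/-- **Steps 1-4 of (N6)** for the `i`-th summand. -/
theorem exists_D (hk : 2 ≤ k) (i : Fin k) :
    ∃ D ≤ zl (S : Subgroup G) P ⊓ o2 (CC (S : Subgroup G)),
      (∀ z ∈ zl (S : Subgroup G) P ⊓ o2 (CC (S : Subgroup G)), (∀ c ∈ CC (S : Subgroup G), c * z = z * c) → z ∈ D) ∧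
      (∀ e ∈ zl (S : Subgroup G) P ⊓ o2 (CC (S : Subgroup G)), ∃ x : F, em M i ![x, 0] * e ∈ D) ∧
      (∀ x : F, em M i ![x, 0] ∈ D → x = 0) ∧
      ∀ a : F, a ≠ 0 → ∃ ρ ∈ CC (S : Subgroup G), (∀ d ∈ D, ρ * d * ρ⁻¹ = d) ∧
        ∀ x : F, ρ * em M i ![x, 0] * ρ⁻¹ = em M i ![a * x, 0] := by
  refine spread h.am (h.sp i) (fun hle => ?_) fun y _ hyX hX hgen x hx => h.line_tri hk i hyX hX hgen x hx
  have h1 := (h.hE _ (em_mem M i ![0, 1])).1 (hle (em_fac M i _)) i
  rw [e_em_self] at h1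
  exact one_ne_zero h1

end CaseQ

end Cfsg.Agent.Omega.NO1.NSix
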